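import Mathlib
import Cfsg.Agent.Lib.LowRows.SpRow
import Cfsg.Agent.Lib.LowRows.SpO8
import Cfsg.Agent.Lib.Wr7.Sp5

/-!
Imports for the row of `Sp₈`.
-/
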