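import Mathlib
import Cfsg.Agent.Lib.LowRows.SuOne
import Cfsg.Agent.Lib.Imprim.FrameSU
import Cfsg.Agent.Lib.Imprim.Pair
import Cfsg.Agent.Lib.ExtFld.UU4
import Cfsg.Agent.Lib.Tensor.HermIdent
import Cfsg.Agent.Lib.Subfld.Main

/-!
Collected imports for the rows of unitary groups in small dimension.
-/
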