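import Mathlib
import Cfsg.Agent.Lib.LowRows.SuRow
import Cfsg.Agent.Lib.Tensor.HermIdent2

/-!
Collected imports for the rows of unitary groups in dimensions six and twelve.
-/
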